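import Mathlib

/-!
Core of the codimension-one flatness criterion over an Artinian local base:
`B` without embedded primes, `B_red` "S₂", flat with reduced fibres in codimension `≤ 1`
implies `B` flat with reduced fibre.
-/

set_option autoImplicit false

universe u v

namespace FamCycLib

open TensorProduct

/-- The colon ideal `(K : y)`. -/
def col {R : Type*} [CommRing R] (K : Ideal R) (y : R) : Ideal R := Submodule.comap (LinearMap.mulRight R y) K

lemma mem_col {R : Type*} [CommRing R] {K : Ideal R} {y b : R} : b ∈ col K y ↔ b * y ∈ K := Iff.rfl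

variable {A : Type u} {B : Type v} [CommRing A] [CommRing B] [Algebra A B]

/-- `B ⧸ K` has no associated primes other than minimal primes of `B`. -/
def NoEmb (K : Ideal B) : Prop :=
  ∀ q : Ideal B, q.IsPrime → ∀ x : B, (∀ b, b * x ∈ K ↔ b ∈ q) → q ∈ minimalPrimes B

lemma exists_min_of_noEmb [IsNoetherianRing B] {K : Ideal B} (hK : NoEmb K) (q : Ideal B)
    [hq : q.IsPrime] (x : B) (hx : ∀ s ∉ q, s * x ∉ K) :
    ∃ p ∈ minimalPrimes B, p ≤ q ∧ ∀ s ∉ p, s * x ∉ K := by
  let 𝒮 : Set (Ideal B) := {J | ∃ w : B, J = col K (w * x) ∧ J ≤ q}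
  have h1 : col K ((1 : B) * x) ∈ 𝒮 := by
    refine ⟨1, rfl, fun b hb => ?_⟩
    by_contra hbq
    rw [mem_col, one_mul] at hb
    exact hx b hbq hb
  obtain ⟨q0, ⟨w, hw, hq0q⟩, hmax⟩ := set_has_maximal_iff_noetherian.mpr inferInstance 𝒮 ⟨_, h1⟩
  have hmem : ∀ b, b * (w * x) ∈ K ↔ b ∈ q0 := fun b => by rw [hw]; exact mem_col.symm
  have hne : q0 ≠ ⊤ := fun h => hq.ne_top (top_le_iff.mp (h ▸ hq0q))
  have hprime : Ideal.IsPrime q0 := by
    refine ⟨hne, fun {a b} hab => ?_⟩
    by_contra hcon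
    rw [not_or] at hcon
    obtain ⟨ha, hb⟩ := hcon
    by_cases hle : (col K (a * w * x)) ≤ q
    · have hsub : q0 ≤ (col K (a * w * x)) := by
        intro c hc
        rw [mem_col]
        have : c * (a * w * x) = a * (c * (w * x)) := by ring
        rw [this]
        exact K.mul_mem_left _ ((hmem c).mpr hc)
      have hbmem : b ∈ (col K (a * w * x)) := by
        rw [mem_col, show b * (a * w * x) = (a * b) * (w * x) by ring]
        exact (hmem _).mpr hab
      exact hmax _ ⟨a * w, rfl, hle⟩ (lt_of_le_of_ne hsub fun h => hb (h ▸ hbmem))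
    · obtain ⟨s, hs, hsq⟩ := SetLike.not_le_iff_exists.mp hle
      rw [mem_col] at hs
      have hle' : (col K (s * w * x)) ≤ q := by
        intro t ht
        rw [mem_col] at ht
        have : t * s ∈ q0 := (hmem _).mp (by rw [show t * s * (w * x) = t * (s * w * x) by ring]; exact ht)
        exact (hq.mem_or_mem (hq0q this)).resolve_right hsq
      have hsub : q0 ≤ (col K (s * w * x)) := by
        intro c hc
        rw [mem_col, show c * (s * w * x) = s * (c * (w * x)) by ring]
        exact K.mul_mem_left _ ((hmem c).mpr hc)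
      have hamem : a ∈ (col K (s * w * x)) := by
        rw [mem_col, show a * (s * w * x) = s * (a * w * x) by ring]
        exact hs
      exact hmax _ ⟨s * w, rfl, hle'⟩ (lt_of_le_of_ne hsub fun h => ha (h ▸ hamem))
  refine ⟨q0, hK q0 hprime (w * x) hmem, hq0q, fun s hs hsx => hs ((hmem s).mp ?_)⟩
  rw [show s * (w * x) = w * (s * x) by ring]
  exact K.mul_mem_left _ hsx

lemma mem_of_forall_min [IsNoetherianRing B] {K : Ideal B} (hK : NoEmb K) (x : B)
    (h : ∀ p ∈ minimalPrimes B, ∃ s ∉ p, s * x ∈ K) : x ∈ K := by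
  by_contra hx
  have hne : (col K x) ≠ ⊤ := by
    intro htop
    apply hx
    have h1 : (1 : B) ∈ (col K x) := htop ▸ Submodule.mem_top
    simpa [mem_col] using h1
  obtain ⟨q, hq, hle⟩ := Ideal.exists_le_maximal _ hne
  obtain ⟨p, hp, -, hp'⟩ := exists_min_of_noEmb hK q x fun s hs hsx => hs (hle hsx)
  obtain ⟨s, hs, hsx⟩ := h p hp
  exact hp' s hs hsx

/-- A cover in the lattice of ideals of a local ring is generated by one socle element. -/
lemma exists_socle_of_covby [IsLocalRing A] [IsNoetherianRing A] {I J : Ideal A} (hlt : I < J)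
    (hcov : ∀ L, I < L → L ≤ J → L = J) :
    ∃ a, a ∈ J ∧ a ∉ I ∧ J = I ⊔ Ideal.span {a} ∧
      ∀ c ∈ IsLocalRing.maximalIdeal A, c * a ∈ I := by
  obtain ⟨a, haJ, haI⟩ := SetLike.exists_of_lt hlt
  refine ⟨a, haJ, haI, ?_, fun c hc => ?_⟩
  · refine (hcov _ ?_ (sup_le hlt.le ((Ideal.span_singleton_le_iff_mem _).mpr haJ))).symm
    refine lt_of_le_of_ne le_sup_left fun h => haI ?_
    rw [h]
    exact Ideal.mem_sup_right (Ideal.mem_span_singleton_self a)
  · have key : I ⊔ IsLocalRing.maximalIdeal A • J = I := by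
      by_contra hne
      have hJ : I ⊔ IsLocalRing.maximalIdeal A • J = J :=
        hcov _ (lt_of_le_of_ne le_sup_left (Ne.symm hne))
          (sup_le hlt.le Submodule.smul_le_right)
      have : J ≤ I := Submodule.le_of_le_smul_of_le_jacobson_bot (IsNoetherian.noetherian J)
        (IsLocalRing.maximalIdeal_le_jacobson ⊥) hJ.ge
      exact absurd this (not_le_of_gt hlt)
    rw [← key]
    exact Submodule.mem_sup_right (Submodule.smul_mem_smul hc haJ)

lemma mem_map_sup_span {I : Ideal A} {a : A} {z : B}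
    (hz : z ∈ (I ⊔ Ideal.span {a}).map (algebraMap A B)) :
    ∃ i ∈ I.map (algebraMap A B), ∃ y, z = i + algebraMap A B a * y := by
  rw [Ideal.map_sup, Ideal.map_span, Set.image_singleton, Submodule.mem_sup] at hz
  obtain ⟨i, hi, w, hw, rfl⟩ := hz
  obtain ⟨y, rfl⟩ := Ideal.mem_span_singleton'.mp hw
  exact ⟨i, hi, y, by ring⟩

/-- Flatness criterion in colon-ideal form. -/
lemma flat_of_colon {M : Type v} [AddCommGroup M] [Module A M] [IsArtinianRing A]
    (h : ∀ (I : Ideal A) (a : A) (y : M), a • y ∈ I • (⊤ : Submodule A M) →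
      y ∈ col I a • (⊤ : Submodule A M)) : Module.Flat A M := by
  rw [Module.Flat.iff_rTensor_injective']
  intro I
  induction I using WellFoundedLT.induction with
  | ind I ih =>
  rw [injective_iff_map_eq_zero]
  intro x hx
  rcases eq_or_ne I ⊥ with rfl | hI
  · haveI : Subsingleton (↥(⊥ : Ideal A) ⊗[A] M) := by
      refine ⟨fun s t => ?_⟩
      have h0 : ∀ z : ↥(⊥ : Ideal A) ⊗[A] M, z = 0 := fun z => by
        induction z using TensorProduct.induction_on with
        | zero => rfl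
        | tmul i m =>
          rw [show i = 0 from Subtype.ext ((Submodule.mem_bot A).mp i.2), TensorProduct.zero_tmul]
        | add z w hz hw => rw [hz, hw, add_zero]
      rw [h0 s, h0 t]
    exact Subsingleton.elim _ _
  obtain ⟨J, hJ, hJmax⟩ := set_has_maximal_iff_noetherian.mpr inferInstance {J : Ideal A | J < I}
    ⟨⊥, bot_lt_iff_ne_bot.mpr hI⟩
  obtain ⟨a, haI, haJ⟩ := SetLike.exists_of_lt (show J < I from hJ)
  have hIJ : J ⊔ Ideal.span {a} = I := by
    rcases eq_or_lt_of_le (sup_le (le_of_lt hJ) ((Ideal.span_singleton_le_iff_mem _).mpr haI)) with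
      h' | h'
    · exact h'
    · refine absurd ?_ (hJmax _ h')
      refine lt_of_le_of_ne le_sup_left fun e => haJ ?_
      rw [e]
      exact Ideal.mem_sup_right (Ideal.mem_span_singleton_self a)
  have hJI : J ≤ I := le_of_lt hJ
  let incl : ↥J ⊗[A] M →ₗ[A] ↥I ⊗[A] M := LinearMap.rTensor M (Submodule.inclusion hJI)
  have hcomp : ∀ z, LinearMap.rTensor M I.subtype (incl z) = LinearMap.rTensor M J.subtype z := by
    intro z
    rw [← LinearMap.rTensor_comp_apply]
    rfl
  have hdec : ∀ z : ↥I ⊗[A] M, ∃ z' y, z = incl z' + (⟨a, haI⟩ : I) ⊗ₜ[A] y := by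
    intro z
    induction z using TensorProduct.induction_on with
    | zero => exact ⟨0, 0, by simp⟩
    | tmul i m =>
      have hi : (i : A) ∈ J ⊔ Ideal.span {a} := hIJ.symm ▸ i.2
      obtain ⟨j, hj, w, hw, hjw⟩ := Submodule.mem_sup.mp hi
      obtain ⟨c, rfl⟩ := Ideal.mem_span_singleton'.mp hw
      refine ⟨(⟨j, hj⟩ : J) ⊗ₜ m, c • m, ?_⟩
      have hi' : i = Submodule.inclusion hJI ⟨j, hj⟩ + c • (⟨a, haI⟩ : I) := Subtype.ext (by
        simp [← hjw])
      conv_lhs => rw [hi']
      rw [TensorProduct.add_tmul, ← TensorProduct.smul_tmul]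
      rfl
    | add z w hz hw =>
      obtain ⟨z', y, rfl⟩ := hz
      obtain ⟨w', y', rfl⟩ := hw
      exact ⟨z' + w', y + y', by rw [map_add, TensorProduct.tmul_add]; abel⟩
  obtain ⟨x', y, rfl⟩ := hdec x
  have hmu : ∀ z : ↥J ⊗[A] M,
      TensorProduct.lid A M (LinearMap.rTensor M J.subtype z) ∈ J • (⊤ : Submodule A M) := by
    intro z
    induction z using TensorProduct.induction_on with
    | zero => simp
    | tmul j m =>
      simp only [LinearMap.rTensor_tmul, Submodule.subtype_apply, TensorProduct.lid_tmul]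
      exact Submodule.smul_mem_smul j.2 trivial
    | add z w hz hw => simpa only [map_add] using Submodule.add_mem _ hz hw
  have h0 := congrArg (TensorProduct.lid A M) hx
  rw [map_add, map_add, hcomp, map_zero, LinearMap.rTensor_tmul, TensorProduct.lid_tmul] at h0
  have hay : a • y ∈ J • (⊤ : Submodule A M) := by
    have hneg := Submodule.neg_mem _ (hmu x')
    rwa [← eq_neg_of_add_eq_zero_right h0] at hneg
  have hyK := h J a y hay
  have hr : ∃ z, (⟨a, haI⟩ : I) ⊗ₜ[A] y = incl z := by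
    refine Submodule.smul_induction_on hyK (fun k hk m _ => ?_) ?_
    · refine ⟨(⟨k * a, hk⟩ : J) ⊗ₜ m, ?_⟩
      rw [← TensorProduct.smul_tmul]
      rfl
    · rintro u w ⟨z, hz⟩ ⟨z', hz'⟩
      exact ⟨z + z', by rw [TensorProduct.tmul_add, hz, hz', map_add]⟩
  obtain ⟨z, hz⟩ := hr
  rw [hz, ← map_add] at hx ⊢
  rw [hcomp] at hx
  rw [(injective_iff_map_eq_zero _).mp (ih J hJ) _ hx, map_zero]

section Core

variable (A B) in
/-- The hypotheses of the criterion, in elementary form. -/
structure CodimOneHyp [IsLocalRing A] : Prop where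
  noEmb : NoEmb (⊥ : Ideal B)
  le_nil : (IsLocalRing.maximalIdeal A).map (algebraMap A B) ≤ nilradical B
  s2 : ∀ q : Ideal B, q.IsPrime → 1 < q.height → ∃ r₁ ∈ q, ∃ r₂ ∈ q,
    (∀ b, r₁ * b ∈ nilradical B → ∃ s ∉ q, s * b ∈ nilradical B) ∧
    (∀ b c, r₂ * b - r₁ * c ∈ nilradical B → ∃ s ∉ q, ∃ d, s * b - r₁ * d ∈ nilradical B)
  red : ∀ q : Ideal B, q.IsPrime → q.height ≤ 1 → ∀ b ∈ nilradical B,
    ∃ s ∉ q, s * b ∈ (IsLocalRing.maximalIdeal A).map (algebraMap A B)
  flat : ∀ q : Ideal B, q.IsPrime → q.height ≤ 1 → ∀ (I : Ideal A) (a : A) (b : B),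
    algebraMap A B a * b ∈ I.map (algebraMap A B) →
    ∃ s ∉ q, s * b ∈ (col I a).map (algebraMap A B)

variable [IsLocalRing A] [IsArtinianRing A] [IsNoetherianRing B]

lemma mem_prime_of_nil {p : Ideal B} [p.IsPrime] {b : B} (hb : b ∈ nilradical B) : p.IsPrime → b ∈ p :=
  fun hp => by rw [nilradical_eq_sInf] at hb; exact (Submodule.mem_sInf.mp hb) p hp

lemma mem_nil_of_forall_min {b : B} (h : ∀ p ∈ minimalPrimes B, b ∈ p) : b ∈ nilradical B := by
  rw [nilradical_eq_sInf, Submodule.mem_sInf]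
  intro q hq
  haveI : Ideal.IsPrime q := hq
  obtain ⟨p, hp, hpq⟩ := Ideal.exists_minimalPrimes_le (I := (⊥ : Ideal B)) (bot_le : _ ≤ q)
  exact hpq (h p hp)

/-- An element of a prime avoiding all minimal primes is regular on the reduced fibre. -/
lemma exists_reg_le_one (H : CodimOneHyp A B) (q : Ideal B) (hq : q.IsPrime) (hh : q.height ≤ 1)
    (hmin : q ∉ minimalPrimes B) :
    ∃ r ∈ q, ∀ I : Ideal A, I ≠ ⊤ → ∀ x, r * x ∈ I.map (algebraMap A B) →
      ∃ s ∉ q, s * x ∈ I.map (algebraMap A B) := by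
  have hfin : (minimalPrimes B).Finite := minimalPrimes.finite_of_isNoetherianRing B
  have hr : ∃ r ∈ q, ∀ p ∈ minimalPrimes B, r ∉ p := by
    by_contra hcon
    simp only [not_exists, not_and, not_forall, not_not] at hcon
    have hsub : (q : Set B) ⊆ ⋃ p ∈ (hfin.toFinset : Set (Ideal B)), (p : Set B) := by
      intro r hr
      obtain ⟨p, hp, hrp⟩ := hcon r hr
      exact Set.mem_biUnion (by simpa using hp) hrp
    obtain ⟨p, hp, hqp⟩ := (Ideal.subset_union_prime (R := B) (f := id) q q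
      (fun p hp _ _ => (hfin.mem_toFinset.mp hp).1.1)).mp hsub
    have hp' := hfin.mem_toFinset.mp hp
    obtain ⟨p0, hp0, hle0⟩ := Ideal.exists_minimalPrimes_le (I := (⊥ : Ideal B)) (bot_le : _ ≤ q)
    apply hmin
    have : p0 = p := le_antisymm (hle0.trans hqp) (hp'.2 hp0.1 (hle0.trans hqp))
    rw [show q = p from le_antisymm hqp (this ▸ hle0)]
    exact hp'
  obtain ⟨r, hrq, hr⟩ := hr
  refine ⟨r, hrq, fun I => ?_⟩
  have hbase : ∀ x, r * x ∈ (IsLocalRing.maximalIdeal A).map (algebraMap A B) →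
      ∃ s ∉ q, s * x ∈ (IsLocalRing.maximalIdeal A).map (algebraMap A B) := fun x hx =>
    H.red q hq hh x (mem_nil_of_forall_min fun p hp =>
      haveI := hp.1.1
      (hp.1.1.mem_or_mem (mem_prime_of_nil (H.le_nil hx) hp.1.1)).resolve_left (hr p hp))
  induction I using WellFoundedGT.induction with
  | ind I ih =>
  intro hI x hx
  have hIm := IsLocalRing.le_maximalIdeal hI
  rcases eq_or_lt_of_le hIm with rfl | hlt
  · exact hbase x hx
  obtain ⟨J, ⟨hIJ, hJm⟩, hJmin⟩ := IsArtinian.set_has_minimal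
    {J : Ideal A | I < J ∧ J ≤ IsLocalRing.maximalIdeal A} ⟨_, hlt, le_rfl⟩
  obtain ⟨a, haJ, haI, hJ, hsoc⟩ := exists_socle_of_covby hIJ fun L h1 h2 => by
    by_contra hne
    exact hJmin L ⟨h1, h2.trans hJm⟩ (lt_of_le_of_ne h2 hne)
  have hJtop : J ≠ ⊤ := fun h =>
    (IsLocalRing.maximalIdeal.isMaximal A).ne_top (top_le_iff.mp (h ▸ hJm))
  obtain ⟨s, hs, hsx⟩ := ih J hIJ hJtop x (Ideal.map_mono hIJ.le hx)
  rw [hJ] at hsx
  obtain ⟨i, hi, y, hy⟩ := mem_map_sup_span hsx
  have hmem : algebraMap A B a * (r * y) ∈ I.map (algebraMap A B) := by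
    have : algebraMap A B a * (r * y) = s * (r * x) - r * i := by
      linear_combination (-r) * hy
    rw [this]
    exact Ideal.sub_mem _ (Ideal.mul_mem_left _ _ hx) (Ideal.mul_mem_left _ _ hi)
  obtain ⟨s₂, hs₂, hs₂y⟩ := H.flat q hq hh I a _ hmem
  have hcol : (col I a) ≤ IsLocalRing.maximalIdeal A := by
    refine IsLocalRing.le_maximalIdeal fun htop => haI ?_
    have h1 : (1 : A) ∈ (col I a) := htop ▸ Submodule.mem_top
    simpa [mem_col] using h1
  have h3 : r * (s₂ * y) ∈ (IsLocalRing.maximalIdeal A).map (algebraMap A B) := by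
    rw [show r * (s₂ * y) = s₂ * (r * y) by ring]
    exact Ideal.map_mono hcol hs₂y
  obtain ⟨s₃, hs₃, hs₃y⟩ := hbase _ h3
  refine ⟨s₃ * s₂ * s, fun h => ?_, ?_⟩
  · rcases hq.mem_or_mem h with h | h
    · rcases hq.mem_or_mem h with h | h
      exacts [hs₃ h, hs₂ h]
    · exact hs h
  · rw [show s₃ * s₂ * s * x = s₃ * s₂ * i + algebraMap A B a * (s₃ * (s₂ * y)) by
      linear_combination (s₃ * s₂) * hy]
    refine Ideal.add_mem _ (Ideal.mul_mem_left _ _ hi) ?_
    have hle : Ideal.span {a} * IsLocalRing.maximalIdeal A ≤ I := by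
      rw [Ideal.mul_le]
      intro c hc d hd
      obtain ⟨e, rfl⟩ := Ideal.mem_span_singleton'.mp hc
      rw [show e * a * d = e * (d * a) by ring]
      exact I.mul_mem_left _ (hsoc d hd)
    refine Ideal.map_mono hle ?_
    rw [Ideal.map_mul]
    exact Ideal.mul_mem_mul (Ideal.mem_map_of_mem _ (Ideal.mem_span_singleton_self a)) hs₃y

/-- All the quotients `B ⧸ I B` are without embedded primes. -/
theorem noEmb_map (H : CodimOneHyp A B) : ∀ I : Ideal A, I ≠ ⊤ → NoEmb (I.map (algebraMap A B)) := by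
  intro I
  induction I using WellFoundedLT.induction with
  | ind I ih =>
  intro hI
  rcases eq_or_ne I ⊥ with rfl | hI0
  · rw [Ideal.map_bot]; exact H.noEmb
  obtain ⟨J, hJI, hJmax⟩ : ∃ J : Ideal A, J < I ∧ ∀ L : Ideal A, L < I → ¬ J < L := by
    obtain ⟨J, hJI, hJmax⟩ := set_has_maximal_iff_noetherian.mpr inferInstance
      {J : Ideal A | J < I} ⟨⊥, bot_lt_iff_ne_bot.mpr hI0⟩
    exact ⟨J, hJI, hJmax⟩
  obtain ⟨a, haI, haJ, hI', hsoc⟩ := exists_socle_of_covby hJI fun L h1 h2 => by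
    by_contra hne
    exact hJmax L (lt_of_le_of_ne h2 hne) h1
  have hJ : NoEmb (Ideal.map (algebraMap A B) J) := ih J hJI fun h => hI (top_le_iff.mp (h ▸ hJI.le))
  have hcol : (col J a) ≤ IsLocalRing.maximalIdeal A := by
    refine IsLocalRing.le_maximalIdeal fun htop => haJ ?_
    have h1 : (1 : A) ∈ (col J a) := htop ▸ Submodule.mem_top
    simpa [mem_col] using h1
  have hle : Ideal.span {a} * IsLocalRing.maximalIdeal A ≤ J := by
    rw [Ideal.mul_le]
    intro c hc d hd
    obtain ⟨e, rfl⟩ := Ideal.mem_span_singleton'.mp hc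
    rw [show e * a * d = e * (d * a) by ring]
    exact J.mul_mem_left _ (hsoc d hd)
  have hmmem : ∀ b, b ∈ (IsLocalRing.maximalIdeal A).map (algebraMap A B) →
      algebraMap A B a * b ∈ J.map (algebraMap A B) := fun b hb => by
    refine Ideal.map_mono hle ?_
    rw [Ideal.map_mul]
    exact Ideal.mul_mem_mul (Ideal.mem_map_of_mem _ (Ideal.mem_span_singleton_self a)) hb
  -- `{b | a b ∈ J B}` is the nilradical
  have key : ∀ b, algebraMap A B a * b ∈ J.map (algebraMap A B) ↔ b ∈ nilradical B := by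
    intro b
    constructor
    · intro hb
      refine mem_nil_of_forall_min fun p hp => ?_
      haveI := hp.1.1
      obtain ⟨s, hs, hsb⟩ := H.flat p hp.1.1 ((Ideal.height_eq_zero_iff.mpr hp).trans_le zero_le_one) J a b hb
      exact (hp.1.1.mem_or_mem (mem_prime_of_nil (H.le_nil (Ideal.map_mono hcol hsb)) hp.1.1)).resolve_left hs
    · intro hb
      refine mem_of_forall_min hJ _ fun p hp => ?_
      haveI := hp.1.1
      obtain ⟨s, hs, hsb⟩ := H.red p hp.1.1 ((Ideal.height_eq_zero_iff.mpr hp).trans_le zero_le_one) b hb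
      exact ⟨s, hs, by
        rw [show s * (algebraMap A B a * b) = algebraMap A B a * (s * b) by ring]
        exact hmmem _ hsb⟩
  intro q hq x hx
  by_contra hmin
  haveI := hq
  rcases le_or_gt q.height 1 with hh | hh
  · obtain ⟨r, hrq, hr⟩ := exists_reg_le_one H q hq hh hmin
    obtain ⟨s, hs, hsx⟩ := hr I hI x ((hx r).mpr hrq)
    exact hs ((hx s).mp hsx)
  · obtain ⟨r₁, hr₁, r₂, hr₂, hreg, hreg₂⟩ := H.s2 q hq hh
    have h1 := (hx r₁).mpr hr₁
    have h2 := (hx r₂).mpr hr₂
    rw [hI'] at h1 h2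
    obtain ⟨i₁, hi₁, b₁, hb₁⟩ := mem_map_sup_span h1
    obtain ⟨i₂, hi₂, b₂, hb₂⟩ := mem_map_sup_span h2
    have hdiff : r₂ * b₁ - r₁ * b₂ ∈ nilradical B := by
      refine (key _).mp ?_
      rw [show algebraMap A B a * (r₂ * b₁ - r₁ * b₂) = r₁ * i₂ - r₂ * i₁ by
        linear_combination r₁ * hb₂ - r₂ * hb₁]
      exact Ideal.sub_mem _ (Ideal.mul_mem_left _ _ hi₂) (Ideal.mul_mem_left _ _ hi₁)
    obtain ⟨s, hs, c, hc⟩ := hreg₂ b₁ b₂ hdiff
    have hz : r₁ * (s * x - algebraMap A B a * c) ∈ J.map (algebraMap A B) := by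
      rw [show r₁ * (s * x - algebraMap A B a * c) =
        s * i₁ + algebraMap A B a * (s * b₁ - r₁ * c) by linear_combination s * hb₁]
      exact Ideal.add_mem _ (Ideal.mul_mem_left _ _ hi₁) ((key _).mpr hc)
    -- `r₁` is regular at `q` on `B ⧸ J B`
    obtain ⟨s', hs', hs'z⟩ : ∃ s' ∉ q,
        s' * (s * x - algebraMap A B a * c) ∈ J.map (algebraMap A B) := by
      by_contra hcon
      simp only [not_exists, not_and] at hcon
      obtain ⟨p, hp, hpq, hpz⟩ := exists_min_of_noEmb hJ q _ hcon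
      haveI := hp.1.1
      have hr1p : r₁ ∈ p := by
        by_contra hnp
        exact hpz r₁ hnp hz
      obtain ⟨x', hx', w, hw, hwp⟩ : ∃ n : ℕ, r₁ ^ n ∈ (⊤ : Ideal B) ∧ ∃ w, w * r₁ ^ n ∈ nilradical B ∧ w ∉ p := by
        classical
        have hfin : (minimalPrimes B).Finite := minimalPrimes.finite_of_isNoetherianRing B
        have hex : ∀ p' : Ideal B, ∃ e : B, e ∉ p ∧ (p' ∈ minimalPrimes B → p' ≠ p → e ∈ p') := by
          intro p'
          by_cases h : p' ∈ minimalPrimes B ∧ p' ≠ p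
          · obtain ⟨h1, h2⟩ := h
            have : ¬ p' ≤ p := fun hle' => h2 (le_antisymm hle' (hp.2 h1.1 hle'))
            obtain ⟨e, he, he'⟩ := SetLike.not_le_iff_exists.mp this
            exact ⟨e, he', fun _ _ => he⟩
          · exact ⟨1, hp.1.1.one_notMem, fun h1 h2 => absurd ⟨h1, h2⟩ h⟩
        choose e he he' using hex
        refine ⟨1, trivial, ∏ p' ∈ hfin.toFinset, e p', mem_nil_of_forall_min fun p' hp' => ?_, ?_⟩
        · rcases eq_or_ne p' p with rfl | hne
          · exact p'.mul_mem_left _ (by simpa using hr1p)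
          · refine p'.mul_mem_right _ ?_
            exact (Ideal.IsPrime.prod_mem_iff (hp := hp'.1.1)).mpr
              ⟨p', hfin.mem_toFinset.mpr hp', he' p' hp' hne⟩
        · intro hmem
          obtain ⟨p', -, hp'⟩ := (Ideal.IsPrime.prod_mem_iff (hp := hp.1.1)).mp hmem
          exact he p' hp'
      have : ∀ n w, w * r₁ ^ n ∈ nilradical B → w ∈ p := by
        intro n
        induction n with
        | zero => intro w hw; simpa using mem_prime_of_nil (p := p) hw hp.1.1
        | succ n ihn =>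
          intro w hw
          obtain ⟨t, ht, htw⟩ := hreg (w * r₁ ^ n) (by
            rw [show r₁ * (w * r₁ ^ n) = w * r₁ ^ (n + 1) by ring]; exact hw)
          have := ihn (t * w) (by rw [mul_assoc]; exact htw)
          exact (hp.1.1.mem_or_mem this).resolve_left fun h => ht (hpq h)
      exact hwp (this _ _ hw)
    have hfin' : s' * s ∈ q := by
      refine (hx _).mp ?_
      rw [show s' * s * x = s' * (s * x - algebraMap A B a * c) + algebraMap A B a * (s' * c) by ring]
      refine Ideal.add_mem _ (Ideal.map_mono hJI.le hs'z) (Ideal.mul_mem_right _ _ ?_)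
      exact Ideal.mem_map_of_mem _ haI
    exact (hq.mem_or_mem hfin').elim hs' hs

theorem map_maximalIdeal_eq_nilradical (H : CodimOneHyp A B) :
    (IsLocalRing.maximalIdeal A).map (algebraMap A B) = nilradical B := by
  refine le_antisymm H.le_nil fun b hb => ?_
  refine mem_of_forall_min (noEmb_map H _ (IsLocalRing.maximalIdeal.isMaximal A).ne_top) b fun p hp => ?_
  exact H.red p hp.1.1 (((haveI := hp.1.1; Ideal.height_eq_zero_iff.mpr hp)).trans_le zero_le_one) b hb

theorem colon_map (H : CodimOneHyp A B) (I : Ideal A) (a : A) (b : B)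
    (hb : algebraMap A B a * b ∈ I.map (algebraMap A B)) :
    b ∈ (col I a).map (algebraMap A B) := by
  rcases eq_or_ne (col I a) ⊤ with h | h
  · rw [h, Ideal.map_top]; trivial
  · refine mem_of_forall_min (noEmb_map H _ h) b fun p hp => ?_
    exact H.flat p hp.1.1 (((haveI := hp.1.1; Ideal.height_eq_zero_iff.mpr hp)).trans_le zero_le_one) I a b hb

theorem flat (H : CodimOneHyp A B) : Module.Flat A B := by
  refine flat_of_colon fun I a y hy => ?_
  rw [Ideal.smul_top_eq_map, Submodule.restrictScalars_mem] at hy ⊢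
  rw [Algebra.smul_def] at hy
  exact colon_map H I a y hy

end Core

end FamCycLib
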