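import Groth.Agent.CommAlgDim.Depth
import Groth.Agent.FamCycLib.CodimOneCore
import Groth.Prelude.Def_EGA4b

/-! From Serre's conditions to the elementary hypotheses of `FamCycLib.CodimOneHyp`. -/

set_option autoImplicit false

universe u

namespace FamCycLib

open RingTheory.Sequence Pointwise TensorProduct

section Sk

variable {R : Type u} [CommRing R] [IsNoetherianRing R]

lemma exists_self_equiv (p : Ideal R) [p.IsPrime] :
    Nonempty (Localization.AtPrime p ≃ₗ[Localization.AtPrime p] LocalizedModule p.primeCompl R) := by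
  let f : Localization.AtPrime p →ₗ[Localization.AtPrime p] LocalizedModule p.primeCompl R :=
    LinearMap.toSpanSingleton _ _ (LocalizedModule.mk 1 1)
  have hf : ∀ (a : R) (s : p.primeCompl), f (Localization.mk a s) = LocalizedModule.mk a s := fun a s => by
    show Localization.mk a s • LocalizedModule.mk (1 : R) (1 : p.primeCompl) = _
    rw [LocalizedModule.mk_smul_mk, smul_eq_mul, mul_one, mul_one]
  refine ⟨LinearEquiv.ofBijective f ⟨?_, fun y => ?_⟩⟩
  · intro a b h
    induction a using Localization.induction_on with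
    | H a =>
    induction b using Localization.induction_on with
    | H b =>
    rw [hf, hf, LocalizedModule.mk_eq] at h
    obtain ⟨c, hc⟩ := h
    rw [Localization.mk_eq_mk_iff, Localization.r_iff_exists]
    exact ⟨c, by simpa [Submonoid.smul_def, mul_left_comm, mul_comm, mul_assoc] using hc⟩
  · induction y using LocalizedModule.induction_on with
    | h a s => exact ⟨Localization.mk a s, hf a s⟩

lemma exists_seq_of_hasSk {k : ℕ} (h : LocCoh.HasSk k R R) (p : Ideal R) [p.IsPrime]
    (hk : (k : ℕ∞) ≤ p.height) :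
    ∃ rs : List (Localization.AtPrime p), rs.length = k ∧
      (∀ r ∈ rs, r ∈ IsLocalRing.maximalIdeal (Localization.AtPrime p)) ∧
      IsWeaklyRegular (Localization.AtPrime p) rs := by
  obtain ⟨e⟩ := exists_self_equiv p
  have h1 := h p
  rw [← Module.supportDim_eq_of_equiv e, Module.supportDim_self_eq_ringKrullDim,
    IsLocalization.AtPrime.ringKrullDim_eq_height p (Localization.AtPrime p),
    ← CommAlgDim.depth_congr e, min_eq_left (by exact_mod_cast hk)] at h1
  exact (CommAlgDim.le_depth_iff k).mp (by exact_mod_cast h1)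

end Sk

variable {A B : Type u} [CommRing A] [CommRing B] [Algebra A B] [IsNoetherianRing B]

lemma noEmb_bot_of_hasSk_one (h : LocCoh.HasSk 1 B B) : NoEmb (⊥ : Ideal B) := by
  intro q hq x hx
  by_contra hmin
  haveI := hq
  have hh : (1 : ℕ∞) ≤ q.height := by
    rw [Order.one_le_iff_ne_zero]
    exact fun h0 => hmin (Ideal.height_eq_zero_iff.mp h0)
  obtain ⟨rs, hl, hm, hr⟩ := exists_seq_of_hasSk h q (by exact_mod_cast hh)
  obtain ⟨r, rfl⟩ := List.length_eq_one_iff.mp hl
  rw [isWeaklyRegular_cons_iff] at hr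
  obtain ⟨n, s, hns⟩ := IsLocalization.exists_mk'_eq q.primeCompl r
  have hn : n ∈ q := by
    have := hm r (by simp)
    rw [← hns, IsLocalization.mk'_mem_iff,
      IsLocalization.AtPrime.to_map_mem_maximal_iff (Localization.AtPrime q) q n] at this
    exact this
  have hzero : r * algebraMap B (Localization.AtPrime q) x = 0 := by
    have h0 : n * x = 0 := (Submodule.mem_bot B).mp ((hx n).mpr hn)
    rw [← hns, mul_comm, IsLocalization.mul_mk'_eq_mk'_of_mul, mul_comm, h0, IsLocalization.mk'_zero]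
  have hx0 : algebraMap B (Localization.AtPrime q) x = 0 :=
    hr.1 (show r • algebraMap B (Localization.AtPrime q) x = r • 0 by rw [smul_zero, smul_eq_mul, hzero])
  obtain ⟨c, hc⟩ := (IsLocalization.map_eq_zero_iff q.primeCompl _ x).mp hx0
  exact c.2 ((hx c).mp ((Submodule.mem_bot B).mpr hc))

lemma height_le_height_map (q : Ideal B) [q.IsPrime] :
    haveI := Ideal.map_isPrime_of_surjective (f := Ideal.Quotient.mk (nilradical B))
      Ideal.Quotient.mk_surjective (I := q) (by
        rw [Ideal.mk_ker, nilradical_eq_sInf]; exact sInf_le ‹q.IsPrime›)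
    q.height ≤ (q.map (Ideal.Quotient.mk (nilradical B))).height := by
  have hker : ∀ p : PrimeSpectrum B, RingHom.ker (Ideal.Quotient.mk (nilradical B)) ≤ p.asIdeal := by
    intro p
    rw [Ideal.mk_ker, nilradical_eq_sInf]
    exact sInf_le p.2
  let g : PrimeSpectrum B → PrimeSpectrum (B ⧸ nilradical B) := fun p =>
    ⟨p.asIdeal.map (Ideal.Quotient.mk (nilradical B)),
      Ideal.map_isPrime_of_surjective Ideal.Quotient.mk_surjective (hker p)⟩
  have hg : ∀ p, Ideal.comap (Ideal.Quotient.mk (nilradical B)) (g p).asIdeal = p.asIdeal := fun p => by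
    show Ideal.comap _ (Ideal.map _ _) = _
    rw [Ideal.comap_map_of_surjective' _ Ideal.Quotient.mk_surjective]
    exact sup_eq_left.mpr (hker p)
  have hmono : StrictMono g := fun p p' hpp' => by
    refine lt_of_le_of_ne (Ideal.map_mono hpp'.le) fun he => hpp'.ne (PrimeSpectrum.ext ?_)
    rw [← hg p, ← hg p', he]
  have := Order.height_le_height_apply_of_strictMono g hmono ⟨q, ‹_›⟩
  rw [← PrimeSpectrum.height_eq_orderHeight, ← PrimeSpectrum.height_eq_orderHeight] at this
  exact this

lemma s2_of_hasSk (h : LocCoh.HasSk 2 (B ⧸ nilradical B) (B ⧸ nilradical B)) (q : Ideal B) (hq : q.IsPrime)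
    (hh : 1 < q.height) : ∃ r₁ ∈ q, ∃ r₂ ∈ q,
      (∀ b, r₁ * b ∈ nilradical B → ∃ s ∉ q, s * b ∈ nilradical B) ∧
      (∀ b c, r₂ * b - r₁ * c ∈ nilradical B → ∃ s ∉ q, ∃ d, s * b - r₁ * d ∈ nilradical B) := by
  haveI := hq
  set π := Ideal.Quotient.mk (nilradical B)
  set p := q.map π with hp
  have hkerq : RingHom.ker π ≤ q := by
    rw [Ideal.mk_ker, nilradical_eq_sInf]; exact sInf_le hq
  haveI : p.IsPrime := Ideal.map_isPrime_of_surjective Ideal.Quotient.mk_surjective hkerq
  have hcomap : ∀ b, π b ∈ p ↔ b ∈ q := fun b => by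
    refine ⟨fun hb => ?_, Ideal.mem_map_of_mem _⟩
    have : b ∈ Ideal.comap π p := hb
    rw [hp, Ideal.comap_map_of_surjective' _ Ideal.Quotient.mk_surjective] at this
    exact (sup_eq_left.mpr hkerq : q ⊔ _ = q) ▸ this
  have h2 : (2 : ℕ∞) ≤ p.height := (ENat.add_one_le_iff (by decide)).mpr hh |>.trans (height_le_height_map q)
  obtain ⟨rs, hl, hm, hr⟩ := exists_seq_of_hasSk h p (by exact_mod_cast h2)
  obtain ⟨u₁, u₂, rfl⟩ := List.length_eq_two.mp hl
  rw [isWeaklyRegular_cons_iff] at hr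
  obtain ⟨hreg₁, hr₂⟩ := hr
  rw [isWeaklyRegular_cons_iff] at hr₂
  have hreg₂ := hr₂.1
  obtain ⟨n₁, s₁, hns₁⟩ := IsLocalization.exists_mk'_eq p.primeCompl u₁
  obtain ⟨n₂, s₂, hns₂⟩ := IsLocalization.exists_mk'_eq p.primeCompl u₂
  obtain ⟨r₁, rfl⟩ := Ideal.Quotient.mk_surjective n₁
  obtain ⟨r₂, rfl⟩ := Ideal.Quotient.mk_surjective n₂
  set φ := algebraMap (B ⧸ nilradical B) (Localization.AtPrime p) with hφ
  have hu₁ : φ (π r₁) = φ s₁ * u₁ := by rw [← hns₁, IsLocalization.mk'_spec']
  have hu₂ : φ (π r₂) = φ s₂ * u₂ := by rw [← hns₂, IsLocalization.mk'_spec']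
  have hs₁ : IsUnit (φ s₁) := IsLocalization.map_units _ s₁
  have hs₂ : IsUnit (φ s₂) := IsLocalization.map_units _ s₂
  have hmem : ∀ (u : Localization.AtPrime p) (r : B) (s : p.primeCompl), φ (π r) = φ s * u →
      u ∈ IsLocalRing.maximalIdeal (Localization.AtPrime p) → r ∈ q := fun u r s he hu => by
    rw [← hcomap]
    refine (IsLocalization.AtPrime.to_map_mem_maximal_iff (Localization.AtPrime p) p _).mp ?_
    show φ (π r) ∈ _
    rw [he]
    exact Ideal.mul_mem_left _ _ hu
  -- descending equalities from the localisation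
  have hdesc : ∀ x y : B, φ (π x) = φ (π y) → ∃ s ∉ q, s * x - s * y ∈ nilradical B := fun x y hxy => by
    obtain ⟨⟨c, hc⟩, hcxy⟩ := (IsLocalization.eq_iff_exists p.primeCompl _).mp hxy
    obtain ⟨c, rfl⟩ := Ideal.Quotient.mk_surjective c
    refine ⟨c, fun h' => hc ((hcomap c).mpr h'), ?_⟩
    rw [← Ideal.Quotient.eq, map_mul, map_mul]
    exact hcxy
  refine ⟨r₁, hmem u₁ r₁ s₁ hu₁ (hm _ (by simp)), r₂, hmem u₂ r₂ s₂ hu₂ (hm _ (by simp)),
    fun b hb => ?_, fun b c hbc => ?_⟩
  · have h0 : π r₁ * π b = 0 := by rw [← map_mul, Ideal.Quotient.eq_zero_iff_mem]; exact hb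
    have h1 : u₁ * φ (π b) = 0 := by
      rw [← hs₁.mul_right_eq_zero, ← mul_assoc, ← hu₁, ← map_mul, h0, map_zero]
    have hb0 : φ (π b) = φ (π 0) := by
      rw [map_zero, map_zero]
      exact hreg₁ (show u₁ • φ (π b) = u₁ • 0 by rw [smul_zero, smul_eq_mul, h1])
    obtain ⟨s, hs, hsb⟩ := hdesc b 0 hb0
    exact ⟨s, hs, by simpa using hsb⟩
  · have h0 : π r₂ * π b = π r₁ * π c := by
      rw [← map_mul, ← map_mul]; exact Ideal.Quotient.eq.mpr hbc
    have h1 : u₂ * (φ s₂ * φ (π b)) = u₁ * (φ s₁ * φ (π c)) := by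
      rw [← mul_assoc, mul_comm u₂, ← hu₂, ← mul_assoc, mul_comm u₁, ← hu₁, ← map_mul φ, ← map_mul φ, h0]
    have hmod : (Submodule.Quotient.mk (φ s₂ * φ (π b)) : QuotSMulTop u₁ (Localization.AtPrime p)) = 0 := by
      refine hreg₂ (show u₂ • _ = u₂ • _ from ?_)
      rw [smul_zero, ← Submodule.Quotient.mk_smul, Submodule.Quotient.mk_eq_zero, smul_eq_mul, h1,
        ← smul_eq_mul]
      exact Submodule.smul_mem_pointwise_smul _ _ _ trivial
    rw [Submodule.Quotient.mk_eq_zero] at hmod
    obtain ⟨w, -, hw⟩ := hmod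
    replace hw : u₁ * w = φ s₂ * φ (π b) := hw
    obtain ⟨d, t, hdt⟩ := IsLocalization.exists_mk'_eq p.primeCompl w
    obtain ⟨d, rfl⟩ := Ideal.Quotient.mk_surjective d
    have hwt : φ (π d) = φ t * w := by rw [← hdt, IsLocalization.mk'_spec']
    obtain ⟨a₁, ha₁⟩ := Ideal.Quotient.mk_surjective (s₁ : B ⧸ nilradical B)
    obtain ⟨a₂, ha₂⟩ := Ideal.Quotient.mk_surjective (s₂ : B ⧸ nilradical B)
    obtain ⟨at', hat⟩ := Ideal.Quotient.mk_surjective (t : B ⧸ nilradical B)
    have he : φ (π (a₁ * a₂ * at' * b)) = φ (π (r₁ * d)) := by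
      simp only [map_mul, π, ha₁, ha₂, hat]
      rw [hu₁, hwt]
      linear_combination (-(φ s₁) * φ t) * hw
    obtain ⟨s, hs, hsb⟩ := hdesc _ _ he
    refine ⟨s * (a₁ * a₂ * at'), fun hmem' => ?_, s * d, ?_⟩
    · have hnot : ∀ (a : B) (s : p.primeCompl), π a = s → a ∉ q := fun a s hs' ha =>
        s.2 (show (s : B ⧸ nilradical B) ∈ p from hs' ▸ (hcomap a).mpr ha)
      rcases hq.mem_or_mem hmem' with h' | h'
      · exact hs h'
      rcases hq.mem_or_mem h' with h' | h'
      · rcases hq.mem_or_mem h' with h' | h'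
        exacts [hnot _ _ ha₁ h', hnot _ _ ha₂ h']
      · exact hnot _ _ hat h'
    · rw [show s * (a₁ * a₂ * at') * b - r₁ * (s * d) = s * (a₁ * a₂ * at' * b) - s * (r₁ * d) by ring]
      exact hsb

lemma comap_eq_maximalIdeal [IsArtinianRing A] [IsLocalRing A] (q : Ideal B) [q.IsPrime] :
    q.comap (algebraMap A B) = IsLocalRing.maximalIdeal A :=
  IsLocalRing.eq_maximalIdeal (IsArtinianRing.isMaximal_of_isPrime _)

lemma map_map_localization (q : Ideal B) [q.IsPrime] (I : Ideal A) :
    I.map (algebraMap A (Localization.AtPrime q)) =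
      (I.map (algebraMap A B)).map (algebraMap B (Localization.AtPrime q)) := by
  rw [Ideal.map_map, ← IsScalarTower.algebraMap_eq]

lemma exists_smul_mem (q : Ideal B) [q.IsPrime] {K : Ideal B} {b : B}
    (h : algebraMap B (Localization.AtPrime q) b ∈ K.map (algebraMap B (Localization.AtPrime q))) :
    ∃ s ∉ q, s * b ∈ K := by
  rw [IsLocalization.mem_map_algebraMap_iff q.primeCompl (Localization.AtPrime q)] at h
  obtain ⟨⟨⟨k, hk⟩, s⟩, hks⟩ := h
  rw [← map_mul] at hks
  obtain ⟨c, hc⟩ := (IsLocalization.eq_iff_exists q.primeCompl _).mp hks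
  refine ⟨c * s, q.primeCompl.mul_mem c.2 s.2, ?_⟩
  rw [show (c : B) * (s : B) * b = c * (b * s) by ring, hc]
  exact Ideal.mul_mem_left _ _ hk

lemma mem_col_of_flat {M : Type u} [AddCommGroup M] [Module A M] [Module.Flat A M] {I : Ideal A} {a : A}
    {y : M} (h : a • y ∈ I • (⊤ : Submodule A M)) : y ∈ col I a • (⊤ : Submodule A M) := by
  let f : (A ⧸ col I a) →ₗ[A] (A ⧸ I) :=
    Submodule.mapQ (col I a) I (LinearMap.mulRight A a) le_rfl
  have hf : Function.Injective f := by
    rw [← LinearMap.ker_eq_bot, Submodule.ker_mapQ]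
    exact Submodule.mkQ_map_self _
  have hinj := Module.Flat.lTensor_preserves_injective_linearMap (M := M) f hf
  have h0 : y ⊗ₜ[A] Ideal.Quotient.mk (col I a) 1 = 0 := by
    apply hinj
    rw [map_zero, LinearMap.lTensor_tmul]
    show y ⊗ₜ[A] Ideal.Quotient.mk I (1 * a) = 0
    rw [one_mul]
    apply (TensorProduct.tensorQuotEquivQuotSMul M I).injective
    rw [TensorProduct.tensorQuotEquivQuotSMul_tmul_mk, map_zero, Submodule.Quotient.mk_eq_zero]
    exact h
  have h1 := congrArg (TensorProduct.tensorQuotEquivQuotSMul M (col I a)) h0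
  rw [TensorProduct.tensorQuotEquivQuotSMul_tmul_mk, one_smul, map_zero, Submodule.Quotient.mk_eq_zero] at h1
  exact h1

theorem codimOneHyp [IsArtinianRing A] [IsLocalRing A]
    (hS1 : LocCoh.HasSk 1 B B) (hS2 : LocCoh.HasSk 2 (B ⧸ nilradical B) (B ⧸ nilradical B))
    (hcodim : ∀ (q : Ideal B) [q.IsPrime], q.height ≤ 1 →
      Module.Flat A (Localization.AtPrime q) ∧ IsReduced (EGA4.FibLocRing A B q)) :
    CodimOneHyp A B where
  noEmb := noEmb_bot_of_hasSk_one hS1
  le_nil := by
    rw [nilradical_eq_sInf]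
    refine le_sInf fun q (hq : q.IsPrime) => ?_
    rw [Ideal.map_le_iff_le_comap, comap_eq_maximalIdeal (A := A) q]
  s2 := fun q hq hh => s2_of_hasSk hS2 q hq hh
  red := fun q hq hh b hb => by
    haveI := (hcodim q hh).2
    refine exists_smul_mem q ?_
    rw [← map_map_localization, ← comap_eq_maximalIdeal (A := A) q, ← Ideal.Quotient.eq_zero_iff_mem]
    exact (((mem_nilradical.mp hb).map (algebraMap B (Localization.AtPrime q))).map _).eq_zero
  flat := fun q hq hh I a b hab => by
    haveI := (hcodim q hh).1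
    refine exists_smul_mem q ?_
    rw [← map_map_localization]
    have h : a • algebraMap B (Localization.AtPrime q) b ∈ I • (⊤ : Submodule A (Localization.AtPrime q)) := by
      rw [Ideal.smul_top_eq_map, Submodule.restrictScalars_mem, map_map_localization, Algebra.smul_def,
        IsScalarTower.algebraMap_apply A B (Localization.AtPrime q), ← map_mul]
      exact Ideal.mem_map_of_mem _ hab
    have h' := mem_col_of_flat h
    rw [Ideal.smul_top_eq_map, Submodule.restrictScalars_mem] at h'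
    exact h'

end FamCycLib
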